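import Cfsg.Agent.H627.E7.Num

/-!
# S3482 (`E₇(q)`): common facts on `Row p k S` (helper627)

* `IsCoq S ρ` : cocliques (the fields of `H420.QR.IsCoq`: `⟨h.prime, h.dvd, h.nadj⟩`); this file does not import `H420`;
* `coq` : a coclique of seven primes `> 3` of `S`;
* `nadj_two` : 2 is not adjacent to the primes of the classes 14, 18 (`p ≠ 2`), 7, 9, 14, 18 (`p = 2`);
* `q_ge` : `13 ≤ p ^ k` if `p ≠ 2`.
-/

set_option autoImplicit false

namespace Cfsg.Agent.H627.E7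

open Cfsg.Agent.H436 Cfsg.Agent.H962.E7

universe u

/-- cocliques of the prime graph -/
structure IsCoq (G : Type*) [Group G] (ρ : Finset ℕ) : Prop where
  prime : ∀ r ∈ ρ, r.Prime
  dvd : ∀ r ∈ ρ, r ∣ Nat.card G
  nadj : ∀ r ∈ ρ, ∀ s ∈ ρ, r ≠ s → ¬ ∃ x : G, orderOf x = r * s

variable {p k : ℕ} {S : Type u} [Group S]

theorem two_le (R : Row p k S) : 2 ≤ p ^ k :=
  R.hp.two_le.trans (Nat.le_self_pow (by have := R.hk; omega) p)

theorem q_mod (R : Row p k S) (h : p ≠ 2) : (p ^ k) % 4 = 1 := by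
  have h1 : p % 4 = 1 := by
    rcases R.cas with h1 | h1 | h1 <;> omega
  rw [Nat.pow_mod, h1, one_pow]
  rfl

theorem q_ge (R : Row p k S) (h : p ≠ 2) : 13 ≤ p ^ k := by
  have h1 : 13 ≤ p := by
    rcases R.cas with h1 | h1 | h1 <;> omega
  exact h1.trans (Nat.le_self_pow (by have := R.hk; omega) p)

theorem q_even (R : Row p k S) (h : p = 2) : (p ^ k) % 2 = 0 := by
  subst h
  have := R.hk
  obtain ⟨j, rfl⟩ : ∃ j, k = j + 1 := ⟨k - 1, by omega⟩
  rw [pow_succ]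
  omega

/-- `TT` is odd -/
theorem odd_TT' (R : Row p k S) {i : ℕ} (hi : i ∈ C4) (h : p = 2 ∨ i = 14 ∨ i = 18) : ¬ 2 ∣ TT (p ^ k) i := by
  by_cases h2 : p = 2
  · exact odd_TT_even hi (q_even R h2) (two_le R)
  · exact odd_TT (h.resolve_left h2) (q_mod R h2)

/-- 2 is not adjacent to the primes of class `i` -/
theorem nadj_two (R : Row p k S) {i r : ℕ} (hi : i ∈ C4) (h : p = 2 ∨ i = 14 ∨ i = 18) (hr : Prim (p ^ k) i r) :
    ¬ ∃ x : S, orderOf x = 2 * r := by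
  rintro ⟨x, hx⟩
  have h1 := R.tor i hi x r hr (by rw [hx]; exact Dvd.intro_left _ rfl)
  rw [hx] at h1
  exact odd_TT' R hi h ((Dvd.intro _ rfl).trans h1)

theorem nadj_two' (R : Row p k S) {i r : ℕ} (hi : i ∈ C4) (h : p = 2 ∨ i = 14 ∨ i = 18) (hr : Prim (p ^ k) i r) :
    ¬ ∃ x : S, orderOf x = r * 2 := by
  rw [mul_comm]
  exact nadj_two R hi h hr

/-- the classes 14, 18 (all four if `p = 2`) -/
theorem fl (R : Row p k S) {i : ℕ} (hi : i ∈ C4) (h : p = 2 ∨ i = 14 ∨ i = 18) : Fl S (p ^ k) i := by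
  rcases h with h | h
  · exact R.even h i hi
  · exact R.top i (by simpa using h)

/-- one prime for each of the classes of `C ⊆ C8` -/
theorem coq_of (R : Row p k S) (C : Finset ℕ) (hC : C ⊆ C8) (hF : ∀ i ∈ C, Fl S (p ^ k) i) :
    ∃ f : ℕ → ℕ, (∀ i ∈ C, Prim (p ^ k) i (f i)) ∧ IsCoq S (C.image f) ∧ (∀ r ∈ C.image f, 3 < r) ∧
      (C.image f).card = C.card := by
  classical
  have hex : ∀ i ∈ C, ∃ r, Prim (p ^ k) i r := fun i hi => exists_prim8 (hC hi) (two_le R)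
  choose! f hf using hex
  refine ⟨f, hf, ⟨?_, ?_, ?_⟩, ?_, ?_⟩
  · intro r hr
    obtain ⟨i, hi, rfl⟩ := Finset.mem_image.1 hr
    exact (hf i hi).prime
  · intro r hr
    obtain ⟨i, hi, rfl⟩ := Finset.mem_image.1 hr
    exact (hF i hi).dvd _ (hf i hi)
  · intro r hr s hs hrs
    obtain ⟨i, hi, rfl⟩ := Finset.mem_image.1 hr
    obtain ⟨j, hj, rfl⟩ := Finset.mem_image.1 hs
    exact R.nad i (hC hi) j (hC hj) (fun h => hrs (by rw [h])) _ _ (hf i hi) (hf j hj)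
  · intro r hr
    obtain ⟨i, hi, rfl⟩ := Finset.mem_image.1 hr
    exact three_lt (hC hi) (two_le R) (hf i hi)
  · apply Finset.card_image_of_injOn
    intro i hi j hj hij
    have h1 := hf i hi
    have h2 := hf j hj
    rw [← hij] at h2
    exact h1.unique h2

/-- **A coclique of seven primes `> 3`.** -/
theorem coq (R : Row p k S) : ∃ ρ : Finset ℕ, IsCoq S ρ ∧ (∀ r ∈ ρ, 3 < r) ∧ ρ.card = 7 := by
  classical
  obtain ⟨C, hC, hcard, hF⟩ : ∃ C : Finset ℕ, C ⊆ C8 ∧ C.card = 7 ∧ ∀ i ∈ C, Fl S (p ^ k) i := by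
    by_cases h : ∀ i ∈ C8, Fl S (p ^ k) i
    · exact ⟨C8.erase 5, Finset.erase_subset _ _, by decide, fun i hi => h i (Finset.mem_of_mem_erase hi)⟩
    · push Not at h
      obtain ⟨i, hi, hni⟩ := h
      refine ⟨C8.erase i, Finset.erase_subset _ _, ?_, fun j hj => ?_⟩
      · rw [Finset.card_erase_of_mem hi]
        decide
      · obtain ⟨h1, h2⟩ := Finset.mem_erase.1 hj
        exact (R.one j h2 i hi h1).resolve_right hni
  obtain ⟨f, -, h1, h2, h3⟩ := coq_of R C hC hF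
  exact ⟨_, h1, h2, h3.trans hcard⟩

/-- one of the classes 7, 9 is in `S` -/
theorem side (R : Row p k S) : Fl S (p ^ k) 7 ∨ Fl S (p ^ k) 9 :=
  R.one 7 (by decide) 9 (by decide) (by decide)

end Cfsg.Agent.H627.E7
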