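import Cfsg.Agent.H627.E7.WC

/-!
# S3482 (`E₇(q)`), rows R1, R2: the linear and unitary groups, common part (helper627)

* `Lin S m u w cls` : the facts on `S = PSL_m(u)`, `PSU_m(u)` that are used;
* `size` : the numerical contradiction;
* `Lin.false` : `Row p k S`, `Lin S m u w cls`, `11 ≤ m` are contradictory.
-/

set_option autoImplicit false

namespace Cfsg.Agent.H627.E7

open Cfsg Cfsg.Agent.H436 Cfsg.Agent.H962.E7

universe u

/-- the facts on `PSL_m(u)`, `PSU_m(u)` -/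
structure Lin (S : Type u) [Group S] (m u : ℕ) (w cls : ℕ → ℕ) : Prop where
  wc : WC S m 0 w cls (fun w₀ => m - w₀)
  two : w 2 = 2
  eq : ∀ r : ℕ, r.Prime → 2 < w r → r ∣ Nat.card S → cls r = w r ∧ w r ≤ m
  nadj : ∀ r s : ℕ, r.Prime → s.Prime → 2 < w r → 2 < w s → r ∣ Nat.card S → s ∣ Nat.card S →
    cls r = m → cls s = m - 1 → ¬ ∃ x : S, orderOf x = r * s
  ord : ∀ a N : ℕ, (2 * a = m ∨ 2 * a + 1 = m) → (∃ x : S, orderOf x = N) →
    (∀ r : ℕ, r.Prime → r ∣ N → 2 < w r ∧ cls r = 2 * a) → N ≤ u ^ a + 1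
  big : ∃ z : S, u ^ (m - 1) ≤ (u + 1) * orderOf z + 1 ∧
    ∀ r : ℕ, r.Prime → 2 < w r → cls r = m - 1 → r ∣ orderOf z

theorem Lin.congr {S T : Type*} [Group S] [Group T] (e : S ≃* T) {m u : ℕ} {w cls : ℕ → ℕ} (h : Lin T m u w cls) :
    Lin S m u w cls := by
  have hc := Nat.card_congr e.toEquiv
  have key : ∀ {n : ℕ}, (∃ g : T, orderOf g = n) → ∃ g : S, orderOf g = n := fun ⟨g, hg⟩ =>
    ⟨e.symm g, by rw [MulEquiv.orderOf_eq, hg]⟩
  have key' : ∀ {n : ℕ}, (∃ g : S, orderOf g = n) → ∃ g : T, orderOf g = n := fun ⟨g, hg⟩ =>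
    ⟨e g, by rw [MulEquiv.orderOf_eq, hg]⟩
  refine ⟨h.wc.congr e, h.two, fun r hr hw hd => h.eq r hr hw (hc ▸ hd), fun r s hr hs h1 h2 h3 h4 h5 h6 hx =>
    h.nadj r s hr hs h1 h2 (hc ▸ h3) (hc ▸ h4) h5 h6 (key' hx), fun a N ha hx hN => h.ord a N ha (key' hx) hN, ?_⟩
  obtain ⟨z, h1, h2⟩ := h.big
  exact ⟨e.symm z, by rwa [MulEquiv.orderOf_eq], by rwa [MulEquiv.orderOf_eq]⟩

theorem size {u q m a : ℕ} (hu : 2 ≤ u) (hq : 13 ≤ q) (ha : 5 ≤ a) (hm : 2 * a ≤ m)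
    (h1 : u ^ (m - 1) ≤ (u + 1) * q ^ 7 + 1) (h2 : q ^ 6 ≤ 8 * (u ^ a + 1)) : False := by
  obtain ⟨X, hX⟩ : ∃ X, X = u ^ a := ⟨_, rfl⟩
  rw [← hX] at h2
  have h3 : 13 ^ 6 ≤ q ^ 6 := Nat.pow_le_pow_left hq 6
  have hX1 : 603350 ≤ X := by
    norm_num at h3
    omega
  have h4 : u ^ (m - 2) ≤ 2 * q ^ 7 := by
    have h5 : u ^ (m - 1) = u * u ^ (m - 2) := by
      rw [show m - 1 = (m - 2) + 1 by omega, pow_succ, mul_comm]
    have h6 : 1 ≤ q ^ 7 := Nat.one_le_pow _ _ (by omega)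
    have h7 : u * u ^ (m - 2) ≤ u * (2 * q ^ 7) := by
      rw [← h5]
      refine h1.trans ?_
      nlinarith
    exact Nat.le_of_mul_le_mul_left h7 (by omega)
  have h5 : (u ^ (m - 2)) ^ 6 ≤ (2 * q ^ 7) ^ 6 := Nat.pow_le_pow_left h4 6
  have h6 : (2 * q ^ 7) ^ 6 ≤ 2 ^ 34 * X ^ 7 := by
    have h7 : (q ^ 6) ^ 7 ≤ (16 * X) ^ 7 := Nat.pow_le_pow_left (by omega) 7
    calc (2 * q ^ 7) ^ 6 = 64 * (q ^ 6) ^ 7 := by ring
      _ ≤ 64 * (16 * X) ^ 7 := Nat.mul_le_mul_left _ h7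
      _ = 2 ^ 34 * X ^ 7 := by ring
  have h7 : X ^ 7 * (X ^ 2 * 8) ≤ (u ^ (m - 2)) ^ 6 := by
    have h8 : u ^ 3 ≥ 8 := by
      calc u ^ 3 ≥ 2 ^ 3 := Nat.pow_le_pow_left hu 3
        _ = 8 := by norm_num
    calc X ^ 7 * (X ^ 2 * 8) ≤ X ^ 7 * (X ^ 2 * u ^ 3) := by gcongr
      _ = u ^ (a * 7 + a * 2 + 3) := by rw [hX, ← pow_mul, ← pow_mul, pow_add, pow_add]; ring
      _ ≤ u ^ ((m - 2) * 6) := Nat.pow_le_pow_right (by omega) (by omega)
      _ = (u ^ (m - 2)) ^ 6 := by rw [pow_mul]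
  have h8 : X ^ 7 * (X ^ 2 * 8) ≤ X ^ 7 * 2 ^ 34 := by
    refine h7.trans (h5.trans (h6.trans ?_))
    rw [mul_comm]
  have h9 : X ^ 2 * 8 ≤ 2 ^ 34 := Nat.le_of_mul_le_mul_left h8 (by positivity)
  have h10 : 603350 ^ 2 ≤ X ^ 2 := Nat.pow_le_pow_left hX1 2
  norm_num at h9 h10
  omega

section

variable {S : Type u} [Group S] {m u p k : ℕ} {w cls : ℕ → ℕ}

/-- the classes of the primes not adjacent to 2 -/
theorem Lin.cls_of (L : Lin S m u w cls) (R : Row p k S) (hm : 11 ≤ m) {i r : ℕ} (hi : i ∈ C4)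
    (h : p = 2 ∨ i = 14 ∨ i = 18) (hr : Prim (p ^ k) i r) :
    3 < r ∧ r ∣ Nat.card S ∧ 2 < w r ∧ (cls r = m ∨ cls r = m - 1) := by
  have h3 := three_lt (C4_sub hi) (two_le R) hr
  have hd := (fl R hi h).dvd r hr
  have hw : m < w r + 2 := by
    by_contra hlt
    exact nadj_two' R hi h hr (L.wc.adj r 2 hr.prime Nat.prime_two (by omega) (by rw [L.two]; omega))
  obtain ⟨h4, h5⟩ := L.eq r hr.prime (by omega) hd
  exact ⟨h3, hd, by omega, by omega⟩

/-- different classes of `q` have different classes of `u` -/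
theorem Lin.cls_ne (L : Lin S m u w cls) (R : Row p k S) (hm : 11 ≤ m) {i r j s : ℕ} (hi : i ∈ C4)
    (h : p = 2 ∨ i = 14 ∨ i = 18) (hr : Prim (p ^ k) i r) (hj : j ∈ C4)
    (h' : p = 2 ∨ j = 14 ∨ j = 18) (hs : Prim (p ^ k) j s) (hij : i ≠ j) : cls r ≠ cls s := by
  intro he
  obtain ⟨h1, h2, h3, -⟩ := L.cls_of R hm hi h hr
  obtain ⟨h4, h5, h6, -⟩ := L.cls_of R hm hj h' hs
  refine R.nad i (C4_sub hi) j (C4_sub hj) hij r s hr hs (L.wc.clq r s hr.prime hs.prime h1 h4 ?_ h2 h5 h3 h6 he)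
  rintro rfl
  exact hij (hr.unique hs)

theorem Lin.false (L : Lin S m u w cls) (R : Row p k S) (hm : 11 ≤ m) (hu : 2 ≤ u) : False := by
  have h14 : (14 : ℕ) ∈ C4 := by decide
  have h18 : (18 : ℕ) ∈ C4 := by decide
  have h7 : (7 : ℕ) ∈ C4 := by decide
  obtain ⟨r, hr⟩ := exists_prim8 (C4_sub h14) (two_le R)
  obtain ⟨s, hs⟩ := exists_prim8 (C4_sub h18) (two_le R)
  have c14 := (L.cls_of R hm h14 (Or.inr (Or.inl rfl)) hr).2.2.2
  have c18 := (L.cls_of R hm h18 (Or.inr (Or.inr rfl)) hs).2.2.2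
  have hne := L.cls_ne R hm h14 (Or.inr (Or.inl rfl)) hr h18 (Or.inr (Or.inr rfl)) hs (by norm_num)
  by_cases hp : p = 2
  · obtain ⟨t, ht⟩ := exists_prim8 (C4_sub h7) (two_le R)
    have c7 := (L.cls_of R hm h7 (Or.inl hp) ht).2.2.2
    have h1 := L.cls_ne R hm h14 (Or.inr (Or.inl rfl)) hr h7 (Or.inl hp) ht (by norm_num)
    have h2 := L.cls_ne R hm h18 (Or.inr (Or.inr rfl)) hs h7 (Or.inl hp) ht (by norm_num)
    omega
  · have hq := q_ge R hp
    have hqm := q_mod R hp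
    -- all primes of one class `i` have the same class
    have hsame : ∀ i : ℕ, i = 14 ∨ i = 18 → ∀ r s : ℕ, Prim (p ^ k) i r → Prim (p ^ k) i s → cls r = cls s := by
      intro i hi r s hr hs
      have hi4 : i ∈ C4 := by
        rcases hi with rfl | rfl
        · exact h14
        · exact h18
      have key : ∀ r s : ℕ, Prim (p ^ k) i r → Prim (p ^ k) i s → cls r = m → cls s = m - 1 → False := by
        intro r s hr hs h1 h2
        have h3 := L.cls_of R hm hi4 (Or.inr hi) hr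
        have h4 := L.cls_of R hm hi4 (Or.inr hi) hs
        have hrs : r ≠ s := by
          rintro rfl
          omega
        obtain ⟨x, hx⟩ := (fl R hi4 (Or.inr hi)).elt hi4
        have hN := NN_pos hi4 (two_le R)
        have hd : r * s ∣ orderOf x := by
          rw [hx]
          exact ((Nat.coprime_primes hr.prime hs.prime).2 hrs).mul_dvd_of_dvd_of_dvd (dvd_NN hi4 (two_le R) hr)
            (dvd_NN hi4 (two_le R) hs)
        exact L.nadj r s hr.prime hs.prime h3.2.2.1 h4.2.2.1 h3.2.1 h4.2.1 h1 h2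
          ⟨x ^ (orderOf x / (r * s)), orderOf_pow_orderOf_div (by omega) hd⟩
      rcases (L.cls_of R hm hi4 (Or.inr hi) hr).2.2.2 with h1 | h1 <;>
        rcases (L.cls_of R hm hi4 (Or.inr hi) hs).2.2.2 with h2 | h2
      · omega
      · exact (key r s hr hs h1 h2).elim
      · exact (key s r hs hr h2 h1).elim
      · omega
    -- the class of even size
    have hA : ∀ i r : ℕ, i = 14 ∨ i = 18 → Prim (p ^ k) i r → cls r = 2 * (m / 2) →
        (p ^ k) ^ 6 ≤ 8 * (u ^ (m / 2) + 1) := by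
      intro i r hi hr hc
      have hi4 : i ∈ C4 := by
        rcases hi with rfl | rfl
        · exact h14
        · exact h18
      have h1 := L.ord (m / 2) (NN (p ^ k) i) (by omega) ((fl R hi4 (Or.inr hi)).elt hi4) (fun s hs hd => by
        have h2 := prim_of_dvd_NN hi4 (two_le R) hs hd
        exact ⟨(L.cls_of R hm hi4 (Or.inr hi) h2).2.2.1, (hsame i hi s r h2 hr).trans hc⟩)
      exact (q_le hi (by omega)).trans (Nat.mul_le_mul_left _ h1)
    -- the class of size `m - 1`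
    have hB : ∀ i r : ℕ, i = 14 ∨ i = 18 → Prim (p ^ k) i r → cls r = m - 1 →
        u ^ (m - 1) ≤ (u + 1) * (p ^ k) ^ 7 + 1 := by
      intro i r hi hr hc
      have hi4 : i ∈ C4 := by
        rcases hi with rfl | rfl
        · exact h14
        · exact h18
      obtain ⟨z, hz1, hz2⟩ := L.big
      have h1 := hz2 r hr.prime (L.cls_of R hm hi4 (Or.inr hi) hr).2.2.1 hc
      have h2 := R.tor i hi4 z r hr h1
      have h3 := TT_le hi (two_le R) (by omega)
      have h4 : 0 < TT (p ^ k) i := by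
        rcases Nat.eq_zero_or_pos (TT (p ^ k) i) with h0 | h0
        · have := odd_TT' R hi4 (Or.inr hi)
          rw [h0] at this
          exact absurd (dvd_zero _) this
        · exact h0
      have h5 := (Nat.le_of_dvd h4 h2).trans h3
      refine hz1.trans ?_
      gcongr
    have hA' : (p ^ k) ^ 6 ≤ 8 * (u ^ (m / 2) + 1) := by
      by_cases h1 : cls r = 2 * (m / 2)
      · exact hA 14 r (Or.inl rfl) hr h1
      · exact hA 18 s (Or.inr rfl) hs (by omega)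
    have hB' : u ^ (m - 1) ≤ (u + 1) * (p ^ k) ^ 7 + 1 := by
      by_cases h1 : cls r = m - 1
      · exact hB 14 r (Or.inl rfl) hr h1
      · exact hB 18 s (Or.inr rfl) hs (by omega)
    exact size hu hq (a := m / 2) (by omega) (by omega) hB' hA'

end

end Cfsg.Agent.H627.E7
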