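import Cfsg.Agent.H627.E7.LinPSL
import Cfsg.Agent.S0279

/-!
# S3482 (`E₇(q)`), row R2: `S` is not `PSU_m(u)` (helper627)
-/

set_option autoImplicit false

namespace Cfsg.Agent.H627.E7

open Cfsg Cfsg.Agent.H436 Cfsg.Agent.H962.E7 Cfsg.Agent.H72 Cfsg.Agent.OrdDiv Matrix
open Cfsg.Agent.H186 Cfsg.Agent.ClassicalGeometry.GUBasic Cfsg.Agent.H103.UniBlock Cfsg.Agent.H103.PGUUpper
  Cfsg.Agent.H127 Cfsg.Agent.H376.PrimeOrd

universe u

section inst

variable {F : Type*} [Field F] [Fintype F] {m q : ℕ}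

theorem wU_two : AdjPSU.wU q 2 = 2 := by
  have h : 2 ∣ q ∨ 2 ∣ q + 1 := by omega
  rw [AdjPSU.wU, if_pos h]

theorem wU_key {r : ℕ} (hr : 2 < AdjPSU.wU q r) : ¬ r ∣ q ∧ ¬ r ∣ q + 1 ∧ AdjPSU.wU q r = AdjPSU.nu q r := by
  rw [AdjPSU.wU] at hr ⊢
  split_ifs at hr with h
  · omega
  · have h' := not_or.1 h
    exact ⟨h'.1, h'.2, if_neg h⟩

theorem nu_dvd_of {r a : ℕ} (hq : 1 ≤ q) (h : if Even a then r ∣ q ^ a - 1 else r ∣ q ^ a + 1) :
    AdjPSU.nu q r ∣ a := by
  apply orderOf_dvd_of_pow_eq_one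
  split_ifs at h with he
  · rw [he.neg_pow]
    rw [← ZMod.natCast_eq_zero_iff, Nat.cast_sub (Nat.one_le_pow _ _ hq)] at h
    push_cast at h
    linear_combination h
  · rw [(Nat.not_even_iff_odd.1 he).neg_pow]
    rw [← ZMod.natCast_eq_zero_iff] at h
    push_cast at h
    linear_combination -h

/-- the order of `q ^ 2` -/
theorem order_sq (r : ℕ) : orderOf ((q ^ 2 : ℕ) : ZMod r) = AdjPSU.nu q r / Nat.gcd (AdjPSU.nu q r) 2 := by
  have h : ((q ^ 2 : ℕ) : ZMod r) = (-(q : ZMod r)) ^ 2 := by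
    push_cast
    ring
  rw [h, orderOf_pow' _ two_ne_zero]
  rfl

theorem center_pow (hF : Fintype.card F = q ^ 2) (hm : 3 ≤ m) (x : SU m F q)
    (hx : x ∈ Subgroup.center (SU m F q)) : x ^ (q + 1) = 1 := by
  have hfin : Finite (SU m F q) := inferInstance
  have h1 : orderOf x ∣ Nat.card (Subgroup.center (SU m F q)) := by
    have := orderOf_dvd_natCard (⟨x, hx⟩ : Subgroup.center (SU m F q))
    rwa [Subgroup.orderOf_mk] at this
  rw [S0279.result hF m hm] at h1
  exact orderOf_dvd_iff_pow_eq_one.1 (h1.trans (Nat.gcd_dvd_right _ _))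

theorem arith_nadj {m : ℕ} (hm : 4 ≤ m) (hkey : m / Nat.gcd m 2 + (m - 1) / Nat.gcd (m - 1) 2 ≤ m ∨
    ∃ d, 0 < d ∧ d ≤ m ∧ m / Nat.gcd m 2 ∣ d ∧ (m - 1) / Nat.gcd (m - 1) 2 ∣ d) : False := by
  rcases Nat.even_or_odd' m with ⟨b, hb | hb⟩
  · have g1 : Nat.gcd m 2 = 2 := Nat.gcd_eq_right ⟨b, hb⟩
    have g2 : Nat.gcd (m - 1) 2 = 1 := by
      rw [Nat.gcd_comm]
      exact (Nat.Prime.coprime_iff_not_dvd Nat.prime_two).2 (by clear hkey; omega)
    rw [g1, g2, Nat.div_one] at hkey
    rcases hkey with h7 | ⟨d, hd0, hd, h8, h9⟩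
    · omega
    · obtain ⟨c, hc⟩ := h9
      have hc1 : c = 1 := by
        have : c < 2 := by
          by_contra h
          have : (m - 1) * 2 ≤ (m - 1) * c := Nat.mul_le_mul_left _ (by omega)
          omega
        interval_cases c <;> omega
      rw [hc1, mul_one] at hc
      rw [hc, show m / 2 = b by omega] at h8
      have h10 : b ∣ 1 := by
        have h11 : b ∣ m := ⟨2, by omega⟩
        have := Nat.dvd_sub h11 h8
        rwa [show m - (m - 1) = 1 by omega] at this
      have := Nat.le_of_dvd one_pos h10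
      omega
  · have hb2 : (m - 1) / 2 = b := by clear hkey; omega
    have g1 : Nat.gcd (m - 1) 2 = 2 := Nat.gcd_eq_right ⟨b, by clear hkey; omega⟩
    have g2 : Nat.gcd m 2 = 1 := by
      rw [Nat.gcd_comm]
      exact (Nat.Prime.coprime_iff_not_dvd Nat.prime_two).2 (by clear hkey; omega)
    rw [g1, g2, Nat.div_one, hb2] at hkey
    rcases hkey with h7 | ⟨d, hd0, hd, h8, h9⟩
    · omega
    · have h10 := Nat.le_of_dvd hd0 h8
      have hdm : d = m := by omega
      rw [hdm] at h9
      have h11 : b ∣ 1 := by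
        have h12 : b ∣ 2 * b := Dvd.intro_left _ rfl
        have := Nat.dvd_sub h9 h12
        rwa [show m - 2 * b = 1 by omega] at this
      have := Nat.le_of_dvd one_pos h11
      omega

/-- **Non-adjacency of the classes `m`, `m - 1`.** -/
theorem psu_nadj (hF : Fintype.card F = q ^ 2) (hm : 4 ≤ m) {r s : ℕ} (hr : r.Prime) (hs : s.Prime)
    (hwr : 2 < AdjPSU.wU q r) (hws : 2 < AdjPSU.wU q s) (hcr : AdjPSU.nu q r = m) (hcs : AdjPSU.nu q s = m - 1) :
    ¬ ∃ x : PSU m F q, orderOf x = r * s := by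
  classical
  rintro ⟨x, hx⟩
  have hq := ClassicalGeometry.GUBasic.two_le hF
  obtain ⟨p, hp⟩ := CharP.exists F
  have hpp : Fact p.Prime := ⟨CharP.char_is_prime F p⟩
  obtain ⟨h1, h2, -⟩ := wU_key hwr
  obtain ⟨h4, h5, -⟩ := wU_key hws
  have hrs : r ≠ s := by
    rintro rfl
    omega
  have hcr' : Nat.Coprime (q + 1) r := (Nat.Prime.coprime_iff_not_dvd hr).2 h2 |>.symm
  have hcs' : Nat.Coprime (q + 1) s := (Nat.Prime.coprime_iff_not_dvd hs).2 h5 |>.symm
  have hchar : ∀ t : ℕ, t.Prime → ¬ t ∣ q → (t : F) ≠ 0 := by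
    intro t ht htq h0
    rw [CharP.cast_eq_zero_iff F p] at h0
    have h7 : p = t := ((Nat.dvd_prime ht).1 h0).resolve_left hpp.out.one_lt.ne'
    obtain ⟨j, hj, hj'⟩ := FiniteField.card F p
    apply htq
    apply ht.dvd_of_dvd_pow (n := 2)
    rw [← hF, hj', h7]
    exact dvd_pow_self t j.ne_zero
  have hrF := hchar r hr h1
  have hsF := hchar s hs h4
  set Z := Subgroup.center (SU m F q) with hZ
  obtain ⟨y, hy1, hy2⟩ := exists_lift Z (fun x hx => center_pow hF (by omega) x hx) (Nat.Coprime.mul_right hcr' hcs') x hx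
  let f : SU m F q →* Module.End F (Fin m → F) := (S2468.phi F m).comp (SU m F q).subtype
  have hf : Function.Injective f := (S2468.phi_injective F m).comp (SU m F q).subtype_injective
  have hA : f (y ^ s) ^ r = 1 := by
    rw [← map_pow, ← pow_mul, mul_comm s r, hy1, map_one]
  have hB : f (y ^ r) ^ s = 1 := by
    rw [← map_pow, ← pow_mul, hy1, map_one]
  have hfin : Finite (SU m F q) := inferInstance
  have hyo : orderOf y = r * s := by
    apply Nat.dvd_antisymm (orderOf_dvd_of_pow_eq_one hy1)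
    rw [← hy2]
    exact orderOf_map_dvd (QuotientGroup.mk' Z) y
  have hys : f (y ^ s) ≠ 1 := by
    intro h
    have h3 : y ^ s = 1 := hf (h.trans (map_one _).symm)
    have h6 := orderOf_dvd_of_pow_eq_one h3
    rw [hyo] at h6
    have := Nat.le_of_dvd hs.pos h6
    have := hr.two_le
    have := hs.pos
    nlinarith
  have hyr : f (y ^ r) ≠ 1 := by
    intro h
    have h3 : y ^ r = 1 := hf (h.trans (map_one _).symm)
    have h6 := orderOf_dvd_of_pow_eq_one h3
    rw [hyo] at h6
    have := Nat.le_of_dvd hr.pos h6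
    have := hs.two_le
    have := hr.pos
    nlinarith
  have hcomm : f (y ^ s) * f (y ^ r) = f (y ^ r) * f (y ^ s) := by
    rw [← map_mul, ← map_mul, ← pow_add, ← pow_add, add_comm]
  have hkey := two_primes hr hs hrF hsF hA hB hys hyr hcomm
  have hfr : Module.finrank F (Fin m → F) = m := by simp
  have hc : Nat.card F = q ^ 2 := by rw [Nat.card_eq_fintype_card, hF]
  rw [hfr, hc, order_sq, order_sq, hcr, hcs] at hkey
  exact arith_nadj hm hkey

/-- a block of determinant one from an isometry of order `(q + 1) * N` -/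
theorem hasBlock_of_unit' (hF : Fintype.card F = q ^ 2) {a N : ℕ} {ι : Type*} [Fintype ι] [DecidableEq ι]
    (e : Fin a ≃ ι) {A : Matrix ι ι F} (hA : Uni q A) (h1 : A ^ ((q + 1) * N) = 1)
    (h2 : ∀ k : ℕ, A ^ k = 1 → (q + 1) * N ∣ k) : AdjPSU.HasBlock F q a N := by
  have hs : ∀ k : ℕ, ((A ^ (q + 1)).submatrix e e) ^ k = (A ^ ((q + 1) * k)).submatrix e e := by
    intro k
    induction k with
    | zero => rw [pow_zero, mul_zero, pow_zero, Matrix.submatrix_one_equiv]
    | succ k ih => rw [pow_succ, ih, Matrix.submatrix_mul_equiv, ← pow_add, mul_add, mul_one]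
  refine ⟨(A ^ (q + 1)).submatrix e e, uni_submatrix e (AdjPSU.uni_pow hF hA _), ?_, ?_, ?_⟩
  · rw [Matrix.det_submatrix_equiv_self, Matrix.det_pow, AdjPSU.det_pow hF hA]
  · rw [hs, h1, Matrix.submatrix_one_equiv]
  · intro k hk
    rw [hs] at hk
    have h3 : A ^ ((q + 1) * k) = 1 := by
      have h4 := congrArg (fun M : Matrix (Fin a) (Fin a) F => M.submatrix e.symm e.symm) hk
      simp only [Matrix.submatrix_submatrix, Equiv.self_comp_symm, Matrix.submatrix_id_id] at h4
      rw [h4, Matrix.submatrix_one_equiv]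
    exact Nat.dvd_of_mul_dvd_mul_left (Nat.succ_pos q) (h2 _ h3)

theorem block_odd (hF : Fintype.card F = q ^ 2) {a N : ℕ} (ha : Odd a) (hN : q ^ a + 1 = (q + 1) * N) :
    AdjPSU.HasBlock F q a N := by
  obtain ⟨p, hp⟩ := CharP.exists F
  have : Fact p.Prime := ⟨CharP.char_is_prime F p⟩
  obtain ⟨j, hj, -⟩ := UnitRoots.exists_eq_pow hF p
  obtain ⟨A, hA, ho⟩ := exists_singer_unitary (p := p) hj hF ha
  refine hasBlock_of_unit' hF (Equiv.refl _) (N := N) hA ?_ ?_
  · rw [← hN, ← Units.val_pow_eq_pow_val, ← ho, pow_orderOf_eq_one, Units.val_one]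
  · intro k hk
    rw [← hN, ← ho]
    apply orderOf_dvd_of_pow_eq_one
    apply Units.ext
    rw [Units.val_pow_eq_pow_val, hk, Units.val_one]

theorem block_even (hF : Fintype.card F = q ^ 2) {j N : ℕ} (hj : j ≠ 0) (hN : q ^ (2 * j) - 1 = (q + 1) * N) :
    AdjPSU.HasBlock F q (2 * j) N := by
  have hq := ClassicalGeometry.GUBasic.two_le hF
  obtain ⟨A, hA⟩ := AdjPSU.exists_singer F hj
  have hA' : orderOf A = q ^ (2 * j) - 1 := by rw [hA, hF, ← pow_mul]
  let A' : GL (Fin j) F := A
  have hpow : ∀ k : ℕ, (fromBlocks (A' : Matrix (Fin j) (Fin j) F) 0 0 (st q ((A'⁻¹ : GL (Fin j) F) :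
      Matrix (Fin j) (Fin j) F))) ^ k = fromBlocks ((A' ^ k : GL (Fin j) F) : Matrix (Fin j) (Fin j) F) 0 0
        (st q (((A' ^ k)⁻¹ : GL (Fin j) F) : Matrix (Fin j) (Fin j) F)) := by
    intro k
    induction k with
    | zero =>
      rw [pow_zero, pow_zero, inv_one, Units.val_one, st_one hF, fromBlocks_one]
    | succ k ih =>
      rw [pow_succ, ih, fromBlocks_multiply, pow_succ, _root_.mul_inv_rev, Units.val_mul, Units.val_mul, st_mul hF]
      simp only [Matrix.mul_zero, Matrix.zero_mul, add_zero, zero_add]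
  refine hasBlock_of_unit' hF ((finCongr (two_mul j)).trans finSumFinEquiv.symm) (N := N)
    (uni_hyp hF A') ?_ ?_
  · rw [hpow, ← hN, ← hA', show A' ^ orderOf A = 1 from pow_orderOf_eq_one A, inv_one, Units.val_one, st_one hF,
      fromBlocks_one]
  · intro k hk
    rw [hpow, ← fromBlocks_one, fromBlocks_inj] at hk
    rw [← hN, ← hA']
    apply orderOf_dvd_of_pow_eq_one
    exact Units.ext hk.1

theorem exists_pm (n : ℕ) : ∃ N, (if Even n then q ^ n - 1 else q ^ n + 1) = (q + 1) * N := by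
  split_ifs with h
  · obtain ⟨j, hj⟩ := h
    have h1 : q + 1 ∣ q ^ 2 - 1 := ⟨q - 1, by
      have := Nat.sq_sub_sq q 1
      rw [one_pow] at this
      exact this⟩
    have h2 : q ^ 2 - 1 ∣ q ^ n - 1 := by
      rw [hj, ← two_mul, pow_mul]
      simpa using Nat.sub_dvd_pow_sub_pow (q ^ 2) 1 j
    exact h1.trans h2
  · have := (Nat.not_even_iff_odd.1 h).nat_add_dvd_pow_add_pow q 1
    rw [one_pow] at this
    exact this

theorem lin_psu (hF : Fintype.card F = q ^ 2) (hm : 4 ≤ m) : Lin (PSU m F q) m q (AdjPSU.wU q) (AdjPSU.nu q) := by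
  classical
  have hq := ClassicalGeometry.GUBasic.two_le hF
  have hfin' : Finite (SU m F q) := inferInstance
  have hfin : Finite (PSU m F q) := inferInstance
  refine ⟨wc_psu hF (by omega), wU_two, ?_, ?_, ?_, ?_⟩
  · intro r hr hw hd
    obtain ⟨h1, -, h2⟩ := wU_key hw
    exact ⟨h2.symm, h2 ▸ AdjPSU.nu_le hF (by omega) hr h1 hd⟩
  · intro r s hr hs hwr hws _ _ hcr hcs
    exact psu_nadj hF hm hr hs hwr hws hcr hcs
  · rintro a N ha ⟨x, hx⟩ hN
    have ha1 : 1 ≤ a := by omega
    have hNd : N ∣ q ^ (m * (m - 1) / 2) * ∏ i ∈ Finset.range (m - 1), H948.UProd.ph q (i + 1) := by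
      rw [← H948.UProd.card_SU hF (by omega), ← hx]
      exact (orderOf_dvd_natCard x).trans (Subgroup.card_quotient_dvd_card _)
    have h1 : N ∣ q ^ (2 * a) - 1 := by
      rw [Nat.dvd_iff_prime_pow_dvd_dvd]
      intro r k hr hrk
      rcases Nat.eq_zero_or_pos k with rfl | hk0
      · rw [pow_zero]
        exact one_dvd _
      · obtain ⟨hw, hc⟩ := hN r hr ((dvd_pow_self r hk0.ne').trans hrk)
        obtain ⟨h2, -, -⟩ := wU_key hw
        have h3 := hrk.trans hNd
        have h4 : Nat.Coprime (r ^ k) (q ^ (m * (m - 1) / 2)) :=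
          Nat.Coprime.pow _ _ ((Nat.Prime.coprime_iff_not_dvd hr).2 h2)
        have h5 := h4.dvd_of_dvd_mul_left h3
        have hmem : 2 * a - 2 ∈ Finset.range (m - 1) := Finset.mem_range.2 (by omega)
        rw [← Finset.mul_prod_erase _ _ hmem] at h5
        have hco : Nat.Coprime (r ^ k) (∏ i ∈ (Finset.range (m - 1)).erase (2 * a - 2), H948.UProd.ph q (i + 1)) := by
          apply Nat.Coprime.prod_right
          intro i hi
          apply Nat.Coprime.pow_left
          rw [Nat.Prime.coprime_iff_not_dvd hr]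
          intro h6
          obtain ⟨hne, hi⟩ := Finset.mem_erase.1 hi
          rw [Finset.mem_range] at hi
          have h7 : AdjPSU.nu q r ∣ i + 1 + 1 := by
            apply nu_dvd_of (by omega)
            rw [H948.UProd.ph] at h6
            split_ifs at h6 with h8
            · rw [if_neg (by rw [Nat.even_add_one, not_not]; exact h8)]
              exact h6
            · rw [if_pos (by rw [Nat.even_add_one]; exact h8)]
              exact h6
          rw [hc] at h7
          obtain ⟨c, hc'⟩ := h7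
          have hc2 : c < 2 := by
            by_contra h
            have : 2 * a * 2 ≤ 2 * a * c := Nat.mul_le_mul_left _ (by omega)
            omega
          interval_cases c <;> omega
        have h8 := hco.dvd_of_dvd_mul_right h5
        rw [H948.UProd.ph, if_neg (by rw [Nat.not_even_iff_odd]; exact ⟨a - 1, by omega⟩),
          show 2 * a - 2 + 1 + 1 = 2 * a by omega] at h8
        exact h8
    rw [sq_sub] at h1
    -- the primes of `N` divide exactly one factor
    have hcls : ∀ r : ℕ, r.Prime → r ∣ N → (-(q : ZMod r)) ^ a = -1 := by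
      intro r hr hd
      have hf := Fact.mk hr
      obtain ⟨hw, hc⟩ := hN r hr hd
      have h2 : ((-(q : ZMod r)) ^ a) ^ 2 = 1 := by
        rw [← pow_mul, mul_comm, ← hc]
        exact pow_orderOf_eq_one _
      rw [pow_two] at h2
      rcases mul_self_eq_one_iff.1 h2 with h3 | h3
      · exfalso
        have h4 := orderOf_dvd_of_pow_eq_one h3
        change AdjPSU.nu q r ∣ a at h4
        rw [hc] at h4
        have := Nat.le_of_dvd ha1 h4
        omega
      · exact h3
    have hr2 : ∀ r : ℕ, r.Prime → r ∣ N → (2 : ZMod r) ≠ 0 := by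
      intro r hr hd h0
      have hf := Fact.mk hr
      obtain ⟨hw, hc⟩ := hN r hr hd
      have h1 : r ∣ 2 := (ZMod.natCast_eq_zero_iff 2 r).1 (by exact_mod_cast h0)
      have h3 := (Nat.prime_dvd_prime_iff_eq hr Nat.prime_two).1 h1
      rw [h3, wU_two] at hw
      omega
    have hpos : 0 < q ^ a - 1 := by
      have : 1 < q ^ a := Nat.one_lt_pow (by omega) hq
      omega
    rcases Nat.even_or_odd a with he | ho
    · refine le_of_coprime h1 ?_ (Nat.succ_pos _)
      apply Nat.Coprime.symm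
      apply Nat.coprime_of_dvd
      intro r hr hd hd2
      have h3 := hcls r hr hd2
      rw [he.neg_pow] at h3
      rw [← ZMod.natCast_eq_zero_iff, Nat.cast_sub (Nat.one_le_pow _ _ (by omega))] at hd
      push_cast at hd
      apply hr2 r hr hd2
      linear_combination h3 - hd
    · refine (le_of_coprime (b := q ^ a + 1) (c := q ^ a - 1) (by rw [mul_comm]; exact h1) ?_ hpos).trans (by omega)
      apply Nat.Coprime.symm
      apply Nat.coprime_of_dvd
      intro r hr hd hd2
      have h3 := hcls r hr hd2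
      rw [ho.neg_pow] at h3
      rw [← ZMod.natCast_eq_zero_iff] at hd
      push_cast at hd
      apply hr2 r hr hd2
      linear_combination hd + h3
  · obtain ⟨n, rfl⟩ : ∃ n, m = n + 1 := ⟨m - 1, by omega⟩
    obtain ⟨N, hN⟩ := exists_pm (q := q) n
    have hb : AdjPSU.HasBlock F q n N := by
      by_cases he : Even n
      · rw [if_pos he] at hN
        obtain ⟨j, hj⟩ := he
        have hj2 : n = 2 * j := by omega
        subst hj2
        exact block_even hF (by omega) hN
      · rw [if_neg he] at hN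
        exact block_odd hF (Nat.not_even_iff_odd.1 he) hN
    obtain ⟨z, hz⟩ := AdjPSU.exists_order_of_block_lt hF (by omega) hb (Nat.lt_succ_self n) N dvd_rfl
    refine ⟨z, ?_, ?_⟩
    · rw [hz, Nat.add_sub_cancel, ← hN]
      split_ifs <;> omega
    · intro r hr hw hc
      obtain ⟨h1, h2, h3⟩ := wU_key hw
      rw [hz]
      rw [Nat.add_sub_cancel] at hc
      have h4 := AdjPSU.nu_dvd (q := q) (by omega) r
      rw [hc] at h4
      have h5 : r ∣ (q + 1) * N := by
        rw [← hN]
        split_ifs at h4 ⊢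
        · exact h4
        · exact h4
      exact (hr.dvd_mul.1 h5).resolve_left h2

end inst

/-- **Row R2.** -/
theorem row_psu {p k m v : ℕ} {S : Type u} [Group S] [Finite S] (R : Row p k S) (hg : IsNamed (.psu m v) S)
    (_hv : ¬ p ∣ v) : False := by
  obtain ⟨F, _, _, hF, ⟨e⟩⟩ := hg.real
  have hm := hg.cond.1
  obtain ⟨ρ, hρ, h3, h7⟩ := coq R
  have h9 := rank_psu hF hm e hρ h3 (by omega)
  have h11 := (wc_psu hF (n := m) (by omega)).half (hρ.congr e) h3 (by omega)
  exact ((lin_psu hF (m := m) (by omega)).congr e).false R (by omega) (ClassicalGeometry.GUBasic.two_le hF)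

end Cfsg.Agent.H627.E7
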