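import Cfsg.Agent.H627.E7.Common
import Cfsg.Agent.H72.AdjPSL
import Cfsg.Agent.H72.AdjPSUW
import Cfsg.Agent.H72.AdjCoc
import Cfsg.Agent.H72.Task106

/-!
# Bounds for cocliques of the prime graphs of the classical groups

A copy of `H420.SideBd` and of the rank bounds of `H420.CrossRank` (helper420) that does not import the recognition
theorems (helper627).

`WC S m c w cls N` : weights `w` and classes `cls` of the primes of `|S|`: two primes `r`, `s` with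
`w r + w s + c ≤ m` are adjacent; two primes `> 3` of weight `> 2` and the same class are adjacent; there are at most
`N w₀` classes of weight `> w₀` (`w₀ ≥ 2`).

* `WC.half` : a coclique of primes `> 3` has at most `1 + N ((m - c) / 2)` members (`4 + c ≤ m`);
* `WC.thru` : a coclique of primes `> 3` through `x` has at most `1 + N (m - c - w x)` members (`w x + 2 + c ≤ m`);
* `wc_psl`, `wc_psu`, `wc_sp`, `wc_odd`, `wc_plus`, `wc_minus`.
-/

set_option autoImplicit false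

namespace Cfsg.Agent.H627.E7

open Cfsg Cfsg.Agent.H72 Cfsg.Agent.H436

universe u

theorem IsCoq.subset {G : Type*} [Group G] {ρ σ : Finset ℕ} (h : IsCoq G ρ) (hσ : σ ⊆ ρ) : IsCoq G σ :=
  ⟨fun r hr => h.prime r (hσ hr), fun r hr => h.dvd r (hσ hr), fun r hr s hs => h.nadj r (hσ hr) s (hσ hs)⟩

/-- weights and classes of the primes of `|S|` -/
structure WC (S : Type u) [Group S] (m c : ℕ) (w cls N : ℕ → ℕ) : Prop where
  adj : ∀ r s : ℕ, r.Prime → s.Prime → r ≠ s → w r + w s + c ≤ m → ∃ g : S, orderOf g = r * s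
  clq : ∀ r s : ℕ, r.Prime → s.Prime → 3 < r → 3 < s → r ≠ s → r ∣ Nat.card S → s ∣ Nat.card S → 2 < w r →
    2 < w s → cls r = cls s → ∃ g : S, orderOf g = r * s
  cnt : ∀ w₀ : ℕ, 2 ≤ w₀ → ∃ T : Finset ℕ, (∀ s : ℕ, s.Prime → 3 < s → s ∣ Nat.card S → w₀ < w s → cls s ∈ T) ∧
    T.card ≤ N w₀

theorem IsCoq.congr {G H : Type*} [Group G] [Group H] (e : G ≃* H) {ρ : Finset ℕ} (h : IsCoq G ρ) : IsCoq H ρ :=
  ⟨h.prime, fun r hr => by rw [← Nat.card_congr e.toEquiv]; exact h.dvd r hr, fun r hr s hs hrs ⟨g, hg⟩ =>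
    h.nadj r hr s hs hrs ⟨e.symm g, by rw [MulEquiv.orderOf_eq, hg]⟩⟩

theorem WC.congr {S T : Type*} [Group S] [Group T] (e : S ≃* T) {m c : ℕ} {w cls N : ℕ → ℕ} (h : WC T m c w cls N) :
    WC S m c w cls N := by
  have hc := Nat.card_congr e.toEquiv
  have key : ∀ {n : ℕ}, (∃ g : T, orderOf g = n) → ∃ g : S, orderOf g = n := fun ⟨g, hg⟩ =>
    ⟨e.symm g, by rw [MulEquiv.orderOf_eq, hg]⟩
  refine ⟨fun r s hr hs hrs h1 => key (h.adj r s hr hs hrs h1),
    fun r s hr hs h3 h4 hrs h5 h6 h7 h8 h9 => key (h.clq r s hr hs h3 h4 hrs (hc ▸ h5) (hc ▸ h6) h7 h8 h9),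
    fun w₀ hw => ?_⟩
  obtain ⟨C, h1, h2⟩ := h.cnt w₀ hw
  exact ⟨C, fun s hs h3 hd => h1 s hs h3 (hc ▸ hd), h2⟩

variable {S : Type u} [Group S] {m c : ℕ} {w cls N : ℕ → ℕ}

/-- members of weight `> w₀ ≥ 2` -/
theorem WC.card_le (h : WC S m c w cls N) {ρ : Finset ℕ} (hρ : IsCoq S ρ) (h3 : ∀ r ∈ ρ, 3 < r) {w₀ : ℕ} (h2 : 2 ≤ w₀)
    (hw : ∀ r ∈ ρ, w₀ < w r) : ρ.card ≤ N w₀ := by
  obtain ⟨T, hT, hTc⟩ := h.cnt w₀ h2
  refine le_trans (Finset.card_le_card_of_injOn cls (fun r hr => hT r (hρ.prime r hr) (h3 r hr) (hρ.dvd r hr) (hw r hr))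
    ?_) hTc
  intro r hr s hs hrs
  by_contra hne
  exact hρ.nadj r hr s hs hne (h.clq r s (hρ.prime r hr) (hρ.prime s hs) (h3 r hr) (h3 s hs) hne (hρ.dvd r hr)
    (hρ.dvd s hs) (by have := hw r hr; omega) (by have := hw s hs; omega) hrs)

/-- **Through `x`.** -/
theorem WC.thru (h : WC S m c w cls N) {ρ : Finset ℕ} (hρ : IsCoq S ρ) (h3 : ∀ r ∈ ρ, 3 < r) {x : ℕ} (hx : x ∈ ρ)
    (hw : w x + 2 + c ≤ m) : ρ.card ≤ 1 + N (m - c - w x) := by
  have h1 : (ρ.erase x).card ≤ N (m - c - w x) := by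
    refine h.card_le (hρ.subset (Finset.erase_subset _ _)) (fun r hr => h3 r (Finset.mem_of_mem_erase hr)) (by omega) ?_
    intro r hr
    obtain ⟨hrx, hr⟩ := Finset.mem_erase.1 hr
    by_contra hlt
    exact hρ.nadj x hx r hr (Ne.symm hrx) (h.adj x r (hρ.prime x hx) (hρ.prime r hr) (Ne.symm hrx) (by omega))
  rw [Finset.card_erase_of_mem hx] at h1
  omega

/-- **All cocliques.** -/
theorem WC.half (h : WC S m c w cls N) {ρ : Finset ℕ} (hρ : IsCoq S ρ) (h3 : ∀ r ∈ ρ, 3 < r) (hm : 4 + c ≤ m) :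
    ρ.card ≤ 1 + N ((m - c) / 2) := by
  have h1 := Finset.card_filter_add_card_filter_not (s := ρ) (fun r => w r ≤ (m - c) / 2)
  have h2 : (ρ.filter fun r => w r ≤ (m - c) / 2).card ≤ 1 := by
    rw [Finset.card_le_one]
    intro a ha b hb
    rw [Finset.mem_filter] at ha hb
    by_contra hne
    exact hρ.nadj a ha.1 b hb.1 hne (h.adj a b (hρ.prime a ha.1) (hρ.prime b hb.1) hne (by omega))
  have h4 : (ρ.filter fun r => ¬ w r ≤ (m - c) / 2).card ≤ N ((m - c) / 2) := by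
    refine h.card_le (hρ.subset (Finset.filter_subset _ _)) (fun r hr => h3 r (Finset.mem_filter.1 hr).1) (by omega) ?_
    intro r hr
    have := (Finset.mem_filter.1 hr).2
    omega
  omega

/-! ### The classical groups -/

section inst

variable {F : Type*} [Field F] [Fintype F] {n : ℕ}

theorem wc_psl (hn : 3 ≤ n) : WC (Matrix.ProjectiveSpecialLinearGroup (Fin n) F) n 0 (AdjPSL.wL (Fintype.card F))
    (AdjOrth.ee (Fintype.card F)) (fun w₀ => n - w₀) := by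
  have key : ∀ r : ℕ, 2 < AdjPSL.wL (Fintype.card F) r → ¬ r ∣ Fintype.card F ∧
      AdjPSL.wL (Fintype.card F) r = AdjOrth.ee (Fintype.card F) r := by
    intro r hr
    rw [AdjPSL.wL] at hr ⊢
    split_ifs at hr with h
    · omega
    · rw [not_or] at h
      exact ⟨h.1, if_neg (not_or.2 h)⟩
  refine ⟨fun r s hr hs hrs h => AdjPSL.adj_of_wL hr hs hrs (by simpa using h), ?_, ?_⟩
  · intro r s hr hs h3 h4 hrs hd hd' hw hw' hc
    exact AdjPSL.adj_of_ee hn hr hs hrs (key r hw).1 hc (AdjPSL.ee_le hr (key r hw).1 hd)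
  · intro w₀ hw₀
    refine ⟨Finset.Ioc w₀ n, ?_, by rw [Nat.card_Ioc]⟩
    intro s hs h3 hd hw
    obtain ⟨h1, h2⟩ := key s (by omega)
    rw [Finset.mem_Ioc]
    exact ⟨h2 ▸ hw, AdjPSL.ee_le hs h1 hd⟩

theorem wc_psu {q : ℕ} (hF : Fintype.card F = q ^ 2) (hn : 3 ≤ n) : WC (PSU n F q) n 0 (AdjPSU.wU q)
    (AdjPSU.nu q) (fun w₀ => n - w₀) := by
  have key : ∀ r : ℕ, 2 < AdjPSU.wU q r → ¬ r ∣ q ∧ AdjPSU.wU q r = AdjPSU.nu q r := by
    intro r hr
    rw [AdjPSU.wU] at hr ⊢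
    split_ifs at hr with h
    · omega
    · rw [not_or] at h
      exact ⟨h.1, if_neg (not_or.2 h)⟩
  refine ⟨fun r s hr hs hrs h => AdjPSU.adj_of_wU hF hn hr hs hrs (by simpa using h), ?_, ?_⟩
  · intro r s hr hs h3 h4 hrs hd hd' hw hw' hc
    exact AdjPSU.adj_of_nu hF hn hr hs hrs (key r hw).1 hc (AdjPSU.nu_le hF (by omega) hr (key r hw).1 hd)
  · intro w₀ hw₀
    refine ⟨Finset.Ioc w₀ n, ?_, by rw [Nat.card_Ioc]⟩
    intro s hs h3 hd hw
    obtain ⟨h1, h2⟩ := key s (by omega)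
    rw [Finset.mem_Ioc]
    exact ⟨h2 ▸ hw, AdjPSU.nu_le hF (by omega) hs h1 hd⟩

theorem wO_key {q r : ℕ} (h3 : 3 < r) (hr : 2 < AdjOrth.wO q r) : r ≠ 2 ∧ ¬ r ∣ q ∧
    AdjOrth.wO q r = AdjOrth.eta (AdjOrth.ee q r) := by
  rw [AdjOrth.wO] at hr ⊢
  split_ifs at hr with h
  · omega
  · rw [not_or] at h
    exact ⟨h.1, h.2, if_neg (not_or.2 h)⟩

theorem wc_sp (hn : 2 ≤ n) : WC (PSp n F) n 0 (AdjOrth.wO (Nat.card F)) (AdjOrth.ee (Nat.card F))
    (fun w₀ => (n - w₀) + ((n + 1) / 2 - (w₀ + 1) / 2)) := by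
  refine ⟨fun r s hr hs hrs h => AdjSp.sp_adj hn hr hs hrs (by simpa using h), ?_, ?_⟩
  · intro r s hr hs h3 h4 hrs hd hd' hw hw' hc
    obtain ⟨h5, h6, -⟩ := wO_key h3 hw
    obtain ⟨h7, h8, -⟩ := wO_key h4 hw'
    exact AdjSp.sp_clq hn hr hs h5 h7 hrs h6 h8 hc (AdjCoc.sp_class hr h6 hd)
  · intro w₀ hw₀
    refine ⟨AdjCoc.cl w₀ n, ?_, AdjCoc.card_cl_le _ _⟩
    intro s hs h3 hd hw
    obtain ⟨-, h6, h7⟩ := wO_key h3 (show 2 < AdjOrth.wO (Nat.card F) s by omega)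
    rw [AdjCoc.mem_cl]
    exact ⟨h7 ▸ hw, AdjCoc.sp_class hs h6 hd⟩

theorem wc_odd (h2 : (2 : F) ≠ 0) (hn : 3 ≤ n) : WC (POmega F (quadFormOdd n F)) n 0 (AdjOrth.wO (Nat.card F))
    (AdjOrth.ee (Nat.card F)) (fun w₀ => (n - w₀) + ((n + 1) / 2 - (w₀ + 1) / 2)) := by
  refine ⟨fun r s hr hs hrs h => AdjOrth.odd_adj h2 hn hr hs hrs (by simpa using h), ?_, ?_⟩
  · intro r s hr hs h3 h4 hrs hd hd' hw hw' hc
    obtain ⟨h5, h6, -⟩ := wO_key h3 hw
    obtain ⟨h7, h8, -⟩ := wO_key h4 hw'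
    exact AdjOrth.odd_clq h2 hn hr hs h5 h7 hrs h6 h8 hc (AdjCoc.odd_class h2 hn hr h6 hd)
  · intro w₀ hw₀
    refine ⟨AdjCoc.cl w₀ n, ?_, AdjCoc.card_cl_le _ _⟩
    intro s hs h3 hd hw
    obtain ⟨-, h6, h7⟩ := wO_key h3 (show 2 < AdjOrth.wO (Nat.card F) s by omega)
    rw [AdjCoc.mem_cl]
    exact ⟨h7 ▸ hw, AdjCoc.odd_class h2 hn hs h6 hd⟩

theorem wc_plus (hn : 4 ≤ n) : WC (POmega F (quadFormPlus n F)) n 1 (AdjOrth.wO (Nat.card F))
    (AdjOrth.ee (Nat.card F)) (fun w₀ => (n - 1 - w₀) + (n / 2 - (w₀ + 1) / 2) + n % 2) := by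
  classical
  refine ⟨fun r s hr hs hrs h => AdjOrth.plus_adj hn hr hs hrs h, ?_, ?_⟩
  · intro r s hr hs h3 h4 hrs hd hd' hw hw' hc
    obtain ⟨h5, h6, -⟩ := wO_key h3 hw
    obtain ⟨h7, h8, -⟩ := wO_key h4 hw'
    exact AdjOrth.plus_clq hn hr hs h5 h7 hrs h6 h8 hc (AdjCoc.plus_class hn hr h6 hd)
  · intro w₀ hw₀
    refine ⟨AdjCoc.cl w₀ (n - 1) ∪ AdjCoc.topP n, ?_, ?_⟩
    · intro s hs h3 hd hw
      obtain ⟨-, h6, h7⟩ := wO_key h3 (show 2 < AdjOrth.wO (Nat.card F) s by omega)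
      rw [Finset.mem_union, AdjCoc.mem_cl]
      rcases AdjCoc.plus_class hn hs h6 hd with hk | hk
      · left
        omega
      · exact Or.inr (AdjCoc.mem_topP hk.1 hk.2)
    · have h1 := AdjCoc.card_cl_le w₀ (n - 1)
      have h3 := AdjCoc.card_topP n
      have h4 := Finset.card_union_le (AdjCoc.cl w₀ (n - 1)) (AdjCoc.topP n)
      rw [show n - 1 + 1 = n by omega] at h1
      omega

theorem wc_minus (hn : 4 ≤ n) {a b : F} (hab : ∀ z₁ z₂ : F, z₁ ^ 2 + a * z₁ * z₂ + b * z₂ ^ 2 = 0 → z₁ = 0 ∧ z₂ = 0) :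
    WC (POmega F (quadFormMinus (n - 1) F a b)) n 1 (AdjOrth.wO (Nat.card F))
    (AdjOrth.ee (Nat.card F)) (fun w₀ => (n - 1 - w₀) + (n / 2 - (w₀ + 1) / 2) + 1) := by
  classical
  refine ⟨fun r s hr hs hrs h => AdjOrth.minus_adj hn hab hr hs hrs h, ?_, ?_⟩
  · intro r s hr hs h3 h4 hrs hd hd' hw hw' hc
    obtain ⟨h5, h6, -⟩ := wO_key h3 hw
    obtain ⟨h7, h8, -⟩ := wO_key h4 hw'
    exact AdjOrth.minus_clq hn hab hr hs h5 h7 hrs h6 h8 hc (AdjCoc.minus_class hn hab hr h5 h6 hd)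
  · intro w₀ hw₀
    refine ⟨AdjCoc.cl w₀ (n - 1) ∪ {2 * n}, ?_, ?_⟩
    · intro s hs h3 hd hw
      obtain ⟨h5, h6, h7⟩ := wO_key h3 (show 2 < AdjOrth.wO (Nat.card F) s by omega)
      rw [Finset.mem_union, AdjCoc.mem_cl]
      rcases AdjCoc.minus_class hn hab hs h5 h6 hd with hk | hk
      · left
        omega
      · exact Or.inr (AdjCoc.mem_topM hk.1 hk.2)
    · have h1 := AdjCoc.card_cl_le w₀ (n - 1)
      have h4 := Finset.card_union_le (AdjCoc.cl w₀ (n - 1)) {2 * n}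
      rw [Finset.card_singleton] at h4
      rw [show n - 1 + 1 = n by omega] at h1
      omega

end inst

/-! ### `PSL_2(q)` -/

section PSL2

variable {F : Type*} [Field F] [Fintype F]

theorem psl_two_order {N : ℕ} (h : AdjPSL.HasBlock F 2 N) (hN : Odd N) :
    ∃ z : Matrix.ProjectiveSpecialLinearGroup (Fin 2) F, orderOf z = N := by
  obtain ⟨A, hAd, hA1, hA2⟩ := h
  refine AdjPSL.exists_order A hAd ?_ N dvd_rfl
  intro k c hk
  have h1 : c ^ N = 1 := AdjPSU.pow_eq_one_of_scalar (by norm_num) hA1 hk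
  have h2 : c ^ 2 = 1 := by
    have h3 := congrArg Matrix.det hk
    rw [Matrix.det_pow, hAd, one_pow, Matrix.det_smul, Matrix.det_one, mul_one, Fintype.card_fin] at h3
    exact h3.symm
  have h4 : c = 1 := by
    have h5 : orderOf c ∣ Nat.gcd 2 N := Nat.dvd_gcd (orderOf_dvd_of_pow_eq_one h2) (orderOf_dvd_of_pow_eq_one h1)
    rw [(Nat.coprime_two_left.2 hN : Nat.gcd 2 N = 1), Nat.dvd_one] at h5
    exact orderOf_eq_one_iff.1 h5
  rw [h4, one_smul] at hk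
  exact hA2 _ hk

theorem psl_two_card_le {ρ : Finset ℕ} (hρ : IsCoq (Matrix.ProjectiveSpecialLinearGroup (Fin 2) F) ρ)
    (h3 : ∀ r ∈ ρ, 3 < r) : ρ.card ≤ 3 := by
  classical
  have hq := Fintype.one_lt_card (α := F)
  obtain ⟨p, -, -, hp⟩ := AdjCoc.prime_dvd_card F
  let f : ℕ → ℕ := fun s => if s ∣ Fintype.card F then 0 else AdjOrth.ee (Fintype.card F) s
  have hle : ∀ s ∈ ρ, f s ∈ Finset.range 3 := by
    intro s hs
    rw [Finset.mem_range]
    simp only [f]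
    split_ifs with h
    · omega
    · exact Nat.lt_succ_of_le (AdjPSL.ee_le (hρ.prime s hs) h (hρ.dvd s hs))
  refine (Finset.card_le_card_of_injOn f hle ?_).trans (by rw [Finset.card_range])
  intro r hr s hs hrs
  by_contra hne
  have hr1 := hρ.prime r hr
  have hs1 := hρ.prime s hs
  have hr3 := h3 r hr
  have hs3 := h3 s hs
  have hco : Nat.Coprime r s := (Nat.coprime_primes hr1 hs1).2 hne
  have hodd : Odd (r * s) := Nat.odd_mul.2 ⟨hr1.odd_of_ne_two (by omega), hs1.odd_of_ne_two (by omega)⟩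
  simp only [f] at hrs
  split_ifs at hrs with h1 h2 h2
  · rw [← Nat.card_eq_fintype_card] at h1 h2
    exact hne ((hp r hr1 h1).trans (hp s hs1 h2).symm)
  · have := AdjOrth.ee_pos hs1 h2
    omega
  · have := AdjOrth.ee_pos hr1 h1
    omega
  · have h4 := AdjPSL.ee_le hr1 h1 (hρ.dvd r hr)
    have h5 := AdjOrth.ee_pos hr1 h1
    have h6 := AdjOrth.dvd_pow_ee (q := Fintype.card F) (r := r) (by omega)
    have h7 := AdjOrth.dvd_pow_ee (q := Fintype.card F) (r := s) (by omega)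
    rw [← hrs] at h7
    refine hρ.nadj r hr s hs hne ?_
    have h8 : AdjOrth.ee (Fintype.card F) r = 1 ∨ AdjOrth.ee (Fintype.card F) r = 2 := by omega
    rcases h8 with h8 | h8
    · rw [h8, pow_one] at h6 h7
      exact psl_two_order (AdjPSL.hasBlock_two (hco.mul_dvd_of_dvd_of_dvd h6 h7)) hodd
    · have h9 : ¬ r ∣ Fintype.card F - 1 := fun h9 => by
        have := (AdjPSL.ee_eq_one_iff (by omega)).2 h9
        omega
      have h10 : ¬ s ∣ Fintype.card F - 1 := fun h9 => by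
        have := (AdjPSL.ee_eq_one_iff (by omega)).2 h9
        omega
      rw [h8] at h6 h7
      exact psl_two_order (AdjPSL.hasBlock_singer (by norm_num) (hco.mul_dvd_of_dvd_of_dvd h6 h7)
        (Nat.Coprime.mul_left ((Nat.Prime.coprime_iff_not_dvd hr1).2 h9)
          ((Nat.Prime.coprime_iff_not_dvd hs1).2 h10))) hodd

end PSL2

/-! ### small ranks -/

theorem eta_eq_two {k : ℕ} (h : AdjOrth.eta k = 2) : k = 4 := by
  rw [AdjOrth.eta] at h
  split_ifs at h with h1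
  · obtain ⟨j, hj⟩ := h1
    omega
  · exact absurd (h ▸ even_two) h1

theorem WC.small {S : Type u} [Group S] {m c q p : ℕ} {N : ℕ → ℕ} (h : WC S m c (AdjOrth.wO q) (AdjOrth.ee q) N)
    (hp : ∀ s : ℕ, s.Prime → s ∣ q → s = p)
    (h4 : ∀ r s : ℕ, r.Prime → s.Prime → 3 < r → 3 < s → r ≠ s → r ∣ Nat.card S → ¬ r ∣ q → ¬ s ∣ q →
      AdjOrth.ee q r = AdjOrth.ee q s → ∃ g : S, orderOf g = r * s)
    (hm : 3 + c ≤ m) {ρ : Finset ℕ} (hρ : IsCoq S ρ) (h3 : ∀ r ∈ ρ, 3 < r) : ρ.card ≤ 2 + N 2 := by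
  classical
  have h1 := Finset.card_filter_add_card_filter_not (s := ρ) (fun r => AdjOrth.wO q r ≤ 2)
  have h2 : (ρ.filter fun r => ¬ AdjOrth.wO q r ≤ 2).card ≤ N 2 := by
    refine h.card_le (hρ.subset (Finset.filter_subset _ _)) (fun r hr => h3 r (Finset.mem_filter.1 hr).1) le_rfl ?_
    intro r hr
    have := (Finset.mem_filter.1 hr).2
    omega
  have h5 : (ρ.filter fun r => AdjOrth.wO q r ≤ 2).card ≤ 2 := by
    by_cases hex : ∃ a ∈ ρ.filter (fun r => AdjOrth.wO q r ≤ 2), AdjOrth.wO q a ≤ 1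
    · obtain ⟨a, ha, ha1⟩ := hex
      refine le_trans ?_ one_le_two
      rw [Finset.card_le_one_iff_subset_singleton]
      refine ⟨a, fun b hb => ?_⟩
      rw [Finset.mem_singleton]
      by_contra hne
      rw [Finset.mem_filter] at ha hb
      exact hρ.nadj b hb.1 a ha.1 hne (h.adj b a (hρ.prime b hb.1) (hρ.prime a ha.1) hne (by omega))
    · push Not at hex
      have hkey : ∀ s ∈ ρ.filter (fun r => AdjOrth.wO q r ≤ 2), s ∣ q ∨ (¬ s ∣ q ∧ AdjOrth.ee q s = 4) := by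
        intro s hs
        have h6 := hex s hs
        rw [Finset.mem_filter] at hs
        by_cases hsq : s ∣ q
        · exact Or.inl hsq
        · right
          refine ⟨hsq, eta_eq_two ?_⟩
          have h7 : AdjOrth.wO q s = AdjOrth.eta (AdjOrth.ee q s) := by
            rw [AdjOrth.wO, if_neg]
            rintro (h8 | h8)
            · have := h3 s hs.1
              omega
            · exact hsq h8
          omega
      refine (Finset.card_le_card_of_injOn (fun s => if s ∣ q then 0 else 1) (t := Finset.range 2) ?_ ?_).trans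
        (by rw [Finset.card_range])
      · intro s _
        rw [Finset.mem_coe, Finset.mem_range]
        dsimp only
        split_ifs <;> omega
      · intro r hr s hs hrs
        by_contra hne
        have hr' := Finset.mem_filter.1 hr
        have hs' := Finset.mem_filter.1 hs
        rcases hkey r hr with h6 | ⟨h6, h7⟩ <;> rcases hkey s hs with h8 | ⟨h8, h9⟩
        · exact hne ((hp r (hρ.prime r hr'.1) h6).trans (hp s (hρ.prime s hs'.1) h8).symm)
        · dsimp only at hrs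
          rw [if_pos h6, if_neg h8] at hrs
          omega
        · dsimp only at hrs
          rw [if_neg h6, if_pos h8] at hrs
          omega
        · exact hρ.nadj r hr'.1 s hs'.1 hne (h4 r s (hρ.prime r hr'.1) (hρ.prime s hs'.1) (h3 r hr'.1) (h3 s hs'.1)
            hne (hρ.dvd r hr'.1) h6 h8 (h7.trans h9.symm))
  omega

/-! ### ranks -/

section rank

variable {S : Type u} [Group S] {F : Type*} [Field F] [Fintype F] {m : ℕ} {ρ : Finset ℕ}

theorem rank_psl (hm : 2 ≤ m) (e : S ≃* Matrix.ProjectiveSpecialLinearGroup (Fin m) F) (hρ : IsCoq S ρ)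
    (h3 : ∀ r ∈ ρ, 3 < r) (h6 : 6 ≤ ρ.card) : 9 ≤ m := by
  have h1 := hρ.congr e
  by_cases h4 : 4 ≤ m
  · have := (wc_psl (F := F) (n := m) (by omega)).half h1 h3 h4
    omega
  · have h2 : m = 2 ∨ m = 3 := by omega
    rcases h2 with rfl | rfl
    · have := psl_two_card_le h1 h3
      omega
    · obtain ⟨x, hx⟩ : ρ.Nonempty := Finset.card_pos.1 (by omega)
      have := (AdjPSL.card_coclique (F := F) (n := 3) le_rfl (fun r hr => ⟨h1.prime r hr, h1.dvd r hr⟩) h1.nadj hx).1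
      omega

theorem rank_psu {q : ℕ} (hF : Fintype.card F = q ^ 2) (hm : 3 ≤ m) (e : S ≃* PSU m F q) (hρ : IsCoq S ρ)
    (h3 : ∀ r ∈ ρ, 3 < r) (h6 : 6 ≤ ρ.card) : 9 ≤ m := by
  have h1 := hρ.congr e
  by_cases h4 : 4 ≤ m
  · have := (wc_psu hF (n := m) (by omega)).half h1 h3 h4
    omega
  · obtain rfl : m = 3 := by omega
    obtain ⟨x, hx⟩ : ρ.Nonempty := Finset.card_pos.1 (by omega)
    have := (AdjPSU.card_coclique hF (n := 3) le_rfl (fun r hr => ⟨h1.prime r hr, h1.dvd r hr⟩) h1.nadj hx).1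
    omega

theorem rank_sp (hm : 2 ≤ m) (e : S ≃* PSp m F) (hρ : IsCoq S ρ)
    (h3 : ∀ r ∈ ρ, 3 < r) (h6 : 6 ≤ ρ.card) : 5 ≤ m := by
  have h1 := hρ.congr e
  obtain ⟨p, -, -, hp⟩ := AdjCoc.prime_dvd_card F
  by_cases h4 : 4 ≤ m
  · have := (wc_sp (F := F) (n := m) (by omega)).half h1 h3 h4
    omega
  · have h2 : m = 2 ∨ m = 3 := by omega
    rcases h2 with rfl | rfl
    · have := AdjCoc.sp_coclique' (F := F) (m := 2) le_rfl (fun r hr => ⟨h1.prime r hr, h1.dvd r hr⟩) h1.nadj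
      omega
    · have := (wc_sp (F := F) (n := 3) (by omega)).small hp (fun r s hr hs h3 h4 hrs hd hrq hsq he =>
        AdjSp.sp_clq (by omega) hr hs (by omega) (by omega) hrs hrq hsq he (AdjCoc.sp_class hr hrq hd)) (by omega) h1 h3
      omega

theorem rank_odd (h2 : (2 : F) ≠ 0) (hm : 3 ≤ m) (e : S ≃* POmega F (quadFormOdd m F)) (hρ : IsCoq S ρ)
    (h3 : ∀ r ∈ ρ, 3 < r) (h6 : 6 ≤ ρ.card) : 5 ≤ m := by
  have h1 := hρ.congr e
  obtain ⟨p, -, -, hp⟩ := AdjCoc.prime_dvd_card F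
  by_cases h4 : 4 ≤ m
  · have := (wc_odd (F := F) h2 hm).half h1 h3 h4
    omega
  · obtain rfl : m = 3 := by omega
    have := (wc_odd (F := F) h2 hm).small hp (fun r s hr hs h3 h4 hrs hd hrq hsq he =>
      AdjOrth.odd_clq h2 hm hr hs (by omega) (by omega) hrs hrq hsq he (AdjCoc.odd_class h2 hm hr hrq hd)) (by omega)
      h1 h3
    omega

theorem rank_plus (hm : 4 ≤ m) (e : S ≃* POmega F (quadFormPlus m F)) (hρ : IsCoq S ρ)
    (h3 : ∀ r ∈ ρ, 3 < r) (h6 : 6 ≤ ρ.card) : 6 ≤ m := by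
  have h1 := hρ.congr e
  obtain ⟨p, -, -, hp⟩ := AdjCoc.prime_dvd_card F
  by_cases h4 : 5 ≤ m
  · have := (wc_plus (F := F) hm).half h1 h3 h4
    omega
  · obtain rfl : m = 4 := by omega
    have := (wc_plus (F := F) hm).small hp (fun r s hr hs h3 h4 hrs hd hrq hsq he =>
      AdjOrth.plus_clq hm hr hs (by omega) (by omega) hrs hrq hsq he (AdjCoc.plus_class hm hr hrq hd)) (by omega)
      h1 h3
    omega

theorem rank_minus (hm : 4 ≤ m) {a b : F} (hab : ∀ z₁ z₂ : F, z₁ ^ 2 + a * z₁ * z₂ + b * z₂ ^ 2 = 0 → z₁ = 0 ∧ z₂ = 0)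
    (e : S ≃* POmega F (quadFormMinus (m - 1) F a b)) (hρ : IsCoq S ρ)
    (h3 : ∀ r ∈ ρ, 3 < r) (h6 : 6 ≤ ρ.card) : 6 ≤ m := by
  have h1 := hρ.congr e
  obtain ⟨p, -, -, hp⟩ := AdjCoc.prime_dvd_card F
  by_cases h4 : 5 ≤ m
  · have := (wc_minus (F := F) hm hab).half h1 h3 h4
    omega
  · obtain rfl : m = 4 := by omega
    have := (wc_minus (F := F) hm hab).small hp (fun r s hr hs h3 h4 hrs hd hrq hsq he =>
      AdjOrth.minus_clq hm hab hr hs (by omega) (by omega) hrs hrq hsq he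
        (AdjCoc.minus_class hm hab hr (by omega) hrq hd)) (by omega) h1 h3
    omega

end rank

end Cfsg.Agent.H627.E7
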